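import Mathlib

/-! Flat modules and complexes over a local ring with nilpotent maximal ideal. -/

set_option autoImplicit false
set_option backward.isDefEq.respectTransparency false
set_option backward.isDefEq.respectTransparency.types false

universe u

open TensorProduct IsLocalRing

namespace H1ArtFlat

variable {R : Type u} [CommRing R] [IsLocalRing R] (hm : IsNilpotent (maximalIdeal R))

section

variable {M : Type u} [AddCommGroup M] [Module R M]

theorem mk_eq_zero_iff (y : M) :
    (1 : ResidueField R) ⊗ₜ[R] y = 0 ↔ y ∈ maximalIdeal R • (⊤ : Submodule R M) := by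
  rw [← LinearMap.ker_tensorProductMk]
  rfl

theorem mk_surjective : Function.Surjective fun y : M => (1 : ResidueField R) ⊗ₜ[R] y :=
  TensorProduct.mk_surjective R M (ResidueField R) residue_surjective

include hm in
theorem eq_top_of_sup (N : Submodule R M) (h : N ⊔ maximalIdeal R • ⊤ = ⊤) : N = ⊤ := by
  have key : ∀ k : ℕ, N ⊔ maximalIdeal R ^ k • (⊤ : Submodule R M) = ⊤ := by
    intro k
    induction k with
    | zero => simp
    | succ k ih =>
      refine eq_top_iff.2 ?_
      conv_lhs => rw [← ih, ← h, Submodule.smul_sup, ← Submodule.mul_smul, ← pow_succ]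
      exact sup_le le_sup_left (sup_le (Submodule.smul_le_right.trans le_sup_left) le_sup_right)
  obtain ⟨k, hk⟩ := hm
  simpa [hk] using key k

include hm in
theorem exists_basis [Module.Flat R M] {ι : Type u} (v : ι → M)
    (hli : LinearIndependent (ResidueField R) fun i => (1 : ResidueField R) ⊗ₜ[R] v i)
    (hsp : Submodule.span (ResidueField R) (Set.range fun i => (1 : ResidueField R) ⊗ₜ[R] v i) = ⊤) :
    ∃ b : Module.Basis ι R M, ⇑b = v := by
  have h1 : LinearIndependent R v := Module.IsLocalRing.linearIndependent_of_flat v hli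
  have h2 : Submodule.span R (Set.range v) = ⊤ := by
    refine eq_top_of_sup hm _ (eq_top_iff.2 fun y _ => ?_)
    have hy : (1 : ResidueField R) ⊗ₜ[R] y ∈
        Submodule.span (ResidueField R) (Set.range fun i => (1 : ResidueField R) ⊗ₜ[R] v i) := hsp ▸ Submodule.mem_top
    have key : ∀ t ∈ Submodule.span (ResidueField R) (Set.range fun i => (1 : ResidueField R) ⊗ₜ[R] v i),
        ∃ z ∈ Submodule.span R (Set.range v), (1 : ResidueField R) ⊗ₜ[R] z = t := by
      intro t ht
      induction ht using Submodule.span_induction with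
      | mem t ht => obtain ⟨i, rfl⟩ := ht; exact ⟨v i, Submodule.subset_span ⟨i, rfl⟩, rfl⟩
      | zero => exact ⟨0, Submodule.zero_mem _, tmul_zero _ _⟩
      | add a b _ _ ha hb =>
        obtain ⟨za, hza, rfl⟩ := ha
        obtain ⟨zb, hzb, rfl⟩ := hb
        exact ⟨za + zb, Submodule.add_mem _ hza hzb, tmul_add _ _ _⟩
      | smul c a _ ha =>
        obtain ⟨za, hza, rfl⟩ := ha
        obtain ⟨r, rfl⟩ := residue_surjective c
        exact ⟨r • za, Submodule.smul_mem _ _ hza, by rw [tmul_smul, ← algebraMap_smul (ResidueField R) r]; rfl⟩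
    obtain ⟨z, hz, hzy⟩ := key _ hy
    have : (1 : ResidueField R) ⊗ₜ[R] (y - z) = 0 := by rw [tmul_sub, hzy, sub_self]
    exact Submodule.mem_sup.2 ⟨z, hz, y - z, (mk_eq_zero_iff _).1 this, add_sub_cancel z y⟩
  exact ⟨Module.Basis.mk h1 h2.ge, Module.Basis.coe_mk h1 h2.ge⟩

include hm in
/-- A family independent modulo the maximal ideal extends to a basis. -/
theorem exists_basis_extend [Module.Flat R M] {ι : Type u} (v : ι → M)
    (hli : LinearIndependent (ResidueField R) fun i => (1 : ResidueField R) ⊗ₜ[R] v i) :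
    ∃ (κ : Type u) (b : Module.Basis (ι ⊕ κ) R M), ∀ i, b (Sum.inl i) = v i := by
  let vb := fun i => (1 : ResidueField R) ⊗ₜ[R] v i
  obtain ⟨W, hW⟩ := exists_isCompl (Submodule.span (ResidueField R) (Set.range vb))
  let c := Module.Basis.ofVectorSpace (ResidueField R) W
  choose w hw using fun j => mk_surjective (M := M) ((c j : W) : ResidueField R ⊗[R] M)
  have hwr : (fun j => (1 : ResidueField R) ⊗ₜ[R] w j) = fun j => ((c j : W) : ResidueField R ⊗[R] M) := funext hw
  have hli' : LinearIndependent (ResidueField R) fun x => (1 : ResidueField R) ⊗ₜ[R] (Sum.elim v w x) := by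
    have hc : LinearIndependent (ResidueField R) fun j => ((c j : W) : ResidueField R ⊗[R] M) :=
      c.linearIndependent.map' W.subtype W.ker_subtype
    rw [linearIndependent_sum]
    refine ⟨hli, by simpa [Function.comp_def, hwr] using hc, ?_⟩
    refine hW.disjoint.mono le_rfl (Submodule.span_le.2 ?_)
    rintro _ ⟨j, rfl⟩
    show (1 : ResidueField R) ⊗ₜ[R] w j ∈ W
    rw [show (1 : ResidueField R) ⊗ₜ[R] w j = _ from hw j]
    exact (c j).2
  have hsp' : Submodule.span (ResidueField R)
      (Set.range fun x => (1 : ResidueField R) ⊗ₜ[R] (Sum.elim v w x)) = ⊤ := by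
    rw [eq_top_iff, ← hW.sup_eq_top]
    refine sup_le (Submodule.span_mono ?_) ?_
    · rintro _ ⟨i, rfl⟩; exact ⟨Sum.inl i, rfl⟩
    · have hcs : Submodule.span (ResidueField R) (Set.range fun j => ((c j : W) : ResidueField R ⊗[R] M)) = W := by
        have := congrArg (Submodule.map W.subtype) c.span_eq
        rw [Submodule.map_span, ← Set.range_comp, Submodule.map_top, Submodule.range_subtype] at this
        exact this
      refine hcs.symm.le.trans (Submodule.span_mono ?_)
      rintro _ ⟨j, rfl⟩
      exact ⟨Sum.inr j, hw j⟩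
  obtain ⟨b, hb⟩ := exists_basis hm _ hli' hsp'
  exact ⟨_, b, fun i => by rw [hb]; rfl⟩

include hm in
theorem free_of_flat [Module.Flat R M] : Module.Free R M := by
  obtain ⟨κ, b, -⟩ := exists_basis_extend hm (M := M) (ι := PEmpty.{u + 1}) PEmpty.elim linearIndependent_empty_type
  exact Module.Free.of_basis b

end

include hm in
/-- A map of flat modules whose kernel surjects onto the kernel modulo the maximal ideal is regular. -/
theorem exists_regular {Y Z : Type u} [AddCommGroup Y] [Module R Y] [AddCommGroup Z] [Module R Z]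
    [Module.Flat R Z] (g : Y →ₗ[R] Z)
    (hker : ∀ y, g y ∈ maximalIdeal R • (⊤ : Submodule R Z) →
      ∃ z, g z = 0 ∧ y - z ∈ maximalIdeal R • (⊤ : Submodule R Y)) :
    ∃ h : Z →ₗ[R] Y, g ∘ₗ h ∘ₗ g = g := by
  classical
  let gb : ResidueField R ⊗[R] Y →ₗ[ResidueField R] ResidueField R ⊗[R] Z := g.baseChange _
  obtain ⟨V, hV⟩ := exists_isCompl (LinearMap.ker gb)
  let c := Module.Basis.ofVectorSpace (ResidueField R) V
  choose y hy using fun i => mk_surjective (M := Y) ((c i : V) : ResidueField R ⊗[R] Y)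
  have hli : LinearIndependent (ResidueField R) fun i => (1 : ResidueField R) ⊗ₜ[R] g (y i) := by
    have h0 : LinearIndependent (ResidueField R) fun i => ((c i : V) : ResidueField R ⊗[R] Y) :=
      c.linearIndependent.map' V.subtype V.ker_subtype
    have h1 := h0.map (f := gb) (hV.symm.disjoint.mono (Submodule.span_le.2 (by rintro _ ⟨i, rfl⟩; exact (c i).2)) le_rfl)
    have : (fun i => (1 : ResidueField R) ⊗ₜ[R] g (y i)) = gb ∘ fun i => ((c i : V) : ResidueField R ⊗[R] Y) := by
      funext i
      show _ = gb ((c i : V) : ResidueField R ⊗[R] Y)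
      rw [← hy i]
      exact (LinearMap.baseChange_tmul _ _ _).symm
    rw [this]
    exact h1
  obtain ⟨κ, b, hb⟩ := exists_basis_extend hm (fun i => g (y i)) hli
  let h : Z →ₗ[R] Y := b.constr R (Sum.elim y fun _ => 0)
  have hh : ∀ i, h (g (y i)) = y i := fun i => by rw [← hb i, Module.Basis.constr_basis]; rfl
  refine ⟨h, ?_⟩
  have htop : LinearMap.ker g ⊔ Submodule.span R (Set.range y) = ⊤ := by
    refine eq_top_of_sup hm _ (eq_top_iff.2 fun x _ => ?_)
    have hx : (1 : ResidueField R) ⊗ₜ[R] x ∈ LinearMap.ker gb ⊔ V := hV.sup_eq_top ▸ Submodule.mem_top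
    obtain ⟨a, ha, w, hw, hax⟩ := Submodule.mem_sup.1 hx
    have key : ∀ t : V, ∃ z ∈ Submodule.span R (Set.range y), (1 : ResidueField R) ⊗ₜ[R] z = (t : ResidueField R ⊗[R] Y) := by
      intro t
      have ht : t ∈ Submodule.span (ResidueField R) (Set.range c) := c.span_eq ▸ Submodule.mem_top
      induction ht using Submodule.span_induction with
      | mem t ht => obtain ⟨i, rfl⟩ := ht; exact ⟨y i, Submodule.subset_span ⟨i, rfl⟩, hy i⟩
      | zero => exact ⟨0, Submodule.zero_mem _, tmul_zero _ _⟩
      | add a b _ _ ha hb =>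
        obtain ⟨za, hza, ea⟩ := ha
        obtain ⟨zb, hzb, eb⟩ := hb
        exact ⟨za + zb, Submodule.add_mem _ hza hzb, by rw [tmul_add, ea, eb]; rfl⟩
      | smul r a _ ha =>
        obtain ⟨za, hza, ea⟩ := ha
        obtain ⟨r, rfl⟩ := residue_surjective r
        refine ⟨r • za, Submodule.smul_mem _ _ hza, ?_⟩
        rw [tmul_smul, ea, ← algebraMap_smul (ResidueField R) r]
        rfl
    obtain ⟨z, hz, hzw⟩ := key ⟨w, hw⟩
    have hg : g (x - z) ∈ maximalIdeal R • (⊤ : Submodule R Z) := by
      rw [← mk_eq_zero_iff]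
      have : gb ((1 : ResidueField R) ⊗ₜ[R] (x - z)) = 0 := by
        rw [tmul_sub, hzw, ← hax, add_sub_cancel_right]
        exact ha
      exact this
    obtain ⟨k, hk, hxk⟩ := hker _ hg
    exact Submodule.mem_sup.2 ⟨k + z, Submodule.add_mem_sup hk hz, x - z - k, hxk, by abel⟩
  refine LinearMap.ext fun x => ?_
  have hx : x ∈ LinearMap.ker g ⊔ Submodule.span R (Set.range y) := htop ▸ Submodule.mem_top
  obtain ⟨a, ha, w, hw, rfl⟩ := Submodule.mem_sup.1 hx
  have hw' : h (g w) = w := by
    have : Submodule.span R (Set.range y) ≤ LinearMap.eqLocus (h ∘ₗ g) LinearMap.id :=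
      Submodule.span_le.2 (by rintro _ ⟨i, rfl⟩; exact hh i)
    exact this hw
  show g (h (g (a + w))) = g (a + w)
  rw [map_add g a w, show g a = 0 from ha, zero_add, hw']

theorem flat_coker {Y Z : Type u} [AddCommGroup Y] [Module R Y] [AddCommGroup Z] [Module R Z] [Module.Flat R Z]
    (g : Y →ₗ[R] Z) (h : Z →ₗ[R] Y) (hg : g ∘ₗ h ∘ₗ g = g) : Module.Flat R (Z ⧸ LinearMap.range g) := by
  let s : Z ⧸ LinearMap.range g →ₗ[R] Z := (LinearMap.range g).liftQ (LinearMap.id - g ∘ₗ h) (by
    rintro _ ⟨y, rfl⟩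
    simpa [sub_eq_zero] using (LinearMap.congr_fun hg y).symm)
  refine Module.Flat.of_retract s (LinearMap.range g).mkQ (LinearMap.ext fun q => ?_)
  obtain ⟨z, rfl⟩ := Submodule.Quotient.mk_surjective _ q
  show Submodule.Quotient.mk (z - g (h z)) = _
  rw [Submodule.Quotient.mk_sub, (Submodule.Quotient.mk_eq_zero _).2 (LinearMap.mem_range_self g _), sub_zero]
  rfl

include hm in
theorem flat_first {I Y Z : Type u} [AddCommGroup I] [Module R I] [AddCommGroup Y] [Module R Y] [Module.Flat R Y]
    [AddCommGroup Z] [Module R Z] (f : I →ₗ[R] Y) (g : Y →ₗ[R] Z) (hfg : g ∘ₗ f = 0)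
    (h : Z →ₗ[R] Y) (hg : g ∘ₗ h ∘ₗ g = g)
    (h0 : ∀ x, f x ∈ maximalIdeal R • (⊤ : Submodule R Y) → x ∈ maximalIdeal R • (⊤ : Submodule R I))
    (h1 : ∀ y, g y = 0 → ∃ x, y - f x ∈ maximalIdeal R • (⊤ : Submodule R Y)) : Module.Flat R I := by
  let K := LinearMap.ker g
  let e : Y →ₗ[R] K := LinearMap.codRestrict K (LinearMap.id - h ∘ₗ g) fun y => by
    simpa [K, sub_eq_zero] using (LinearMap.congr_fun hg y).symm
  have he : ∀ k : K, e k = k := fun k => Subtype.ext (by
    have hk : g k.1 = 0 := k.2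
    simp [e, hk])
  haveI : Module.Flat R K := Module.Flat.of_retract K.subtype e (LinearMap.ext he)
  haveI : Module.Free R K := free_of_flat hm
  let f' : I →ₗ[R] K := LinearMap.codRestrict K f fun x => LinearMap.congr_fun hfg x
  have hsurj : Function.Surjective f' := by
    rw [← LinearMap.range_eq_top]
    refine eq_top_of_sup hm _ (eq_top_iff.2 fun k _ => ?_)
    obtain ⟨x, hx⟩ := h1 k.1 k.2
    have h2 : e (k.1 - f x) ∈ maximalIdeal R • (⊤ : Submodule R K) := by
      have := Submodule.mem_map_of_mem (f := e) hx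
      rw [Submodule.map_smul''] at this
      exact Submodule.smul_mono le_rfl le_top this
    have h3 : e (k.1 - f x) = k - f' x := by
      rw [map_sub, he]
      exact congrArg (k - ·) (he (f' x))
    rw [h3] at h2
    exact Submodule.mem_sup.2 ⟨f' x, LinearMap.mem_range_self _ _, _, h2, add_sub_cancel (f' x) k⟩
  obtain ⟨s, hs⟩ := Module.projective_lifting_property f' LinearMap.id hsurj
  let p : I →ₗ[R] LinearMap.ker f' := LinearMap.codRestrict _ (LinearMap.id - s ∘ₗ f') fun x => by
    simpa [sub_eq_zero] using (LinearMap.congr_fun hs (f' x)).symm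
  have hL : (⊤ : Submodule R (LinearMap.ker f')) = ⊥ := by
    refine (eq_top_of_sup hm _ (eq_top_iff.2 fun x _ => ?_)).symm
    rw [bot_sup_eq]
    have hfx : f' x.1 = 0 := x.2
    have hx : f x.1 ∈ maximalIdeal R • (⊤ : Submodule R Y) := by
      rw [show f x.1 = 0 from congrArg Subtype.val hfx]
      exact Submodule.zero_mem _
    have h2 := Submodule.mem_map_of_mem (f := p) (h0 _ hx)
    rw [Submodule.map_smul''] at h2
    have h3 : p x.1 = x := Subtype.ext (by simp [p, hfx])
    rw [← h3]
    exact Submodule.smul_mono le_rfl le_top h2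
  have hinj : Function.Injective f' := (injective_iff_map_eq_zero f').2 fun x hx => by
    have : (⟨x, hx⟩ : LinearMap.ker f') ∈ (⊥ : Submodule R (LinearMap.ker f')) := hL ▸ Submodule.mem_top
    exact congrArg Subtype.val ((Submodule.mem_bot R).1 this)
  exact Module.Flat.of_linearEquiv (LinearEquiv.ofBijective f' ⟨hinj, hsurj⟩)

end H1ArtFlat
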